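import Cfsg.Agent.Lib.GD.Basic
import Cfsg.Agent.Lib.FrobZGroup
import Cfsg.Agent.Lib.CoreInvol
import Cfsg.Agent.Lib.PGroupRankOne

/-!
# Groups whose noncentral elements of prime power order have centralizers of the same order:
the Sylow `2`-subgroups of the central quotient
-/

set_option autoImplicit false

namespace CfsgLib.PPC

open Subgroup Cfsg CfsgLib.FT CfsgLib.FT.BGN CfsgLib.GW
open CfsgLib.FT.U4 (mem_cent1 mem_cent1' mem_cent mem_cent1_comm cent1_conj orderOf_conj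
  cent1_le_cent1 self_mem_cent1 conj_mem_conj_iff)

/-- Elements of prime power order. -/
def PP {G : Type*} [Group G] (x : G) : Prop := ∃ r k : ℕ, r.Prime ∧ orderOf x = r ^ k

/-- The standing hypothesis; `f` is the map onto the central quotient. -/
structure Hy {G X : Type*} [Group G] [Group X] (f : G →* X) (m : ℕ) : Prop where
  surj : Function.Surjective f
  ker : ∀ x, f x = 1 ↔ x ∈ center G
  idx : ∀ x, PP x → f x ≠ 1 → (𝐂[x]).index = m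
  even : 2 ∣ m

theorem dih_frame {G : Type*} [Group G] [Finite G] {S : Subgroup G} (hS : IsSylowIn 2 S ⊤)
    {x y : G} (cov : ∀ s ∈ S, s ∈ zpowers x ∨ s * y⁻¹ ∈ zpowers x) (y2 : y * y = 1)
    (inv : y * x * y⁻¹ = x⁻¹) : GD.Dih G := by
  intro T hT
  obtain ⟨g, -, hg⟩ := hS.exists_conj_le hT le_top
  have cov' : ∀ s ∈ T, s ∈ zpowers (g⁻¹ * x * g⁻¹⁻¹) ∨
      s * (g⁻¹ * y * g⁻¹⁻¹)⁻¹ ∈ zpowers (g⁻¹ * x * g⁻¹⁻¹) := fun s hs => by
    rw [U4.zpowers_conj, mem_map_conj_iff, mem_map_conj_iff]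
    simpa [mul_assoc] using cov _ (hg (U4.conj_mem_conj_iff.2 hs))
  replace y2 : g⁻¹ * y * g⁻¹⁻¹ * (g⁻¹ * y * g⁻¹⁻¹) = 1 := by rw [_root_.conj_mul, y2]; simp
  replace inv : g⁻¹ * y * g⁻¹⁻¹ * (g⁻¹ * x * g⁻¹⁻¹) * (g⁻¹ * y * g⁻¹⁻¹)⁻¹ = (g⁻¹ * x * g⁻¹⁻¹)⁻¹ := by
    rw [conj_inv, conj_inv, ← inv]; group
  generalize g⁻¹ * x * g⁻¹⁻¹ = x at cov' inv
  generalize g⁻¹ * y * g⁻¹⁻¹ = y at cov' inv y2
  obtain ⟨c, hc⟩ := (isCyclic_iff_exists_zpowers_eq_top.1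
    (isCyclic_of_le (inf_le_right : T ⊓ zpowers x ≤ _)))
  have e : zpowers (c : G) = T ⊓ zpowers x := by
    have := congrArg (Subgroup.map (T ⊓ zpowers x).subtype) hc
    rwa [MonoidHom.map_zpowers, ← MonoidHom.range_eq_map, range_subtype] at this
  have key : ∀ w ∈ T, w ∉ zpowers (c : G) → ∃ a ∈ zpowers x, w = a * y := fun w hw hw' =>
    ⟨_, (cov' w hw).resolve_left fun h => hw' (e.ge ⟨hw, h⟩), by simp⟩
  have k2 : ∀ a b, b ∈ zpowers x → a * y * (b * y) = a * b⁻¹ := fun a b hb => by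
    rw [show a * y * (b * y) = a * (y * b * y⁻¹) * (y * y) by group, inverts_zpowers inv b hb, y2,
      mul_one]
  refine ⟨c, c.2.1, fun w hw hw' => ?_⟩
  obtain ⟨a, ha, rfl⟩ := key w hw hw'
  refine ⟨by rw [k2 a a ha, mul_inv_cancel], ?_, fun v hv hv' => e.ge ⟨mul_mem hw hv, ?_⟩⟩
  · rw [show a * y * c * (a * y)⁻¹ = a * (y * c * y⁻¹) * a⁻¹ by group, inverts_zpowers inv _ c.2.2,
      (commute_of_mem_zpowers ha ((zpowers x).inv_mem c.2.2)).eq, mul_inv_cancel_right]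
  · obtain ⟨b, hb, rfl⟩ := key v hv hv'
    exact k2 a b hb ▸ (zpowers x).mul_mem ha (inv_mem hb)

variable {G X : Type*} [Group G] [Group X] {f : G →* X} {m : ℕ}

theorem pp_of_mem {p : ℕ} [hp : Fact p.Prime] {T : Subgroup G} (hT : IsPGroup p T) {x : G}
    (hx : x ∈ T) : PP x :=
  let ⟨k, hk⟩ := orderOf_eq_pow_of_mem_isPGroup hT hx; ⟨p, k, hp.out, hk⟩

theorem PP.conj {x : G} (h : PP x) (g : G) : PP (g * x * g⁻¹) := by
  obtain ⟨r, k, hr, e⟩ := h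
  exact ⟨r, k, hr, (orderOf_conj g x).trans e⟩

theorem cent_mul_central {z : G} (hz : z ∈ center G) (x : G) : 𝐂[x * z] = 𝐂[x] := by
  ext g
  rw [mem_cent1, mem_cent1, ← mul_assoc, mul_assoc x z g, ← mem_center_iff.1 hz g, ← mul_assoc,
    mul_left_inj]

theorem comm_sq {s u z : G} (hz : z ∈ center G) (h : s * u = u * s * z)
    (hs : s * s ∈ center G) : s * (u * u) = u * u * s := by
  have zc := mem_center_iff.1 hz
  have e1 : s * s * u = u * (s * s) * (z * z) := by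
    calc s * s * u = s * (s * u) := by group
      _ = s * (u * s * z) := by rw [h]
      _ = (s * u) * s * z := by group
      _ = u * s * (z * s) * z := by rw [h, mul_assoc (u * s) z s]
      _ = _ := by rw [← zc s]; group
  have e2 : z * z = 1 := by
    rw [← mem_center_iff.1 hs u] at e1
    exact left_eq_mul.1 e1
  calc s * (u * u) = (s * u) * u := by group
    _ = u * s * (z * u) := by rw [h]; group
    _ = u * (s * u) * z := by rw [← zc u]; group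
    _ = u * u * s * (z * z) := by rw [h]; group
    _ = _ := by rw [e2, mul_one]

theorem self_mem_cc (v : G) : v ∈ 𝐂(𝐂[v]) := mem_cent.2 fun _ hx => mem_cent1.1 hx

theorem cc_le (v : G) : 𝐂(𝐂[v]) ≤ 𝐂[v] := cent_le_cent1 (self_mem_cent1 v)

theorem cc_comm {v a b : G} (ha : a ∈ 𝐂(𝐂[v])) (hb : b ∈ 𝐂(𝐂[v])) : a * b = b * a :=
  mem_cent.1 hb a (cc_le v ha)

theorem le_of_mem_cc {v a : G} (ha : a ∈ 𝐂(𝐂[v])) : 𝐂[v] ≤ 𝐂[a] :=
  fun g hg => mem_cent1.2 (mem_cent.1 ha g hg)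

theorem ne_of_sq {y : X} (h : y * y ≠ 1) : y ≠ 1 := fun e => h (by rw [e, one_mul])

namespace Hy

variable (h : Hy f m)
include h

theorem exists_z {a b : G} (e : f a = f b) : ∃ z ∈ center G, a = b * z :=
  ⟨b⁻¹ * a, (h.ker _).1 (by rw [map_mul, map_inv, e, inv_mul_cancel]), by group⟩

theorem ker_eq : f.ker = center G := by
  ext x
  exact h.ker x

theorem cent_eq_of_map {a b : G} (e : f a = f b) : 𝐂[a] = 𝐂[b] := by
  obtain ⟨z, hz, rfl⟩ := h.exists_z e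
  exact cent_mul_central hz b

theorem mem_cent_of_ker {z : G} (e : f z = 1) (H : Subgroup G) : z ∈ 𝐂(H) :=
  mem_cent.2 fun x _ => mem_center_iff.1 ((h.ker z).1 e) x

variable [Finite G]

theorem card_eq {x y : G} (hx : PP x) (hy : PP y) (x1 : f x ≠ 1) (y1 : f y ≠ 1) :
    Nat.card 𝐂[x] = Nat.card 𝐂[y] := by
  have e1 := (𝐂[x]).card_mul_index
  have e2 := (𝐂[y]).card_mul_index
  have e3 : (𝐂[x]).index ≠ 0 := index_ne_zero_of_finite
  rw [h.idx x hx x1] at e1 e3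
  rw [h.idx y hy y1] at e2
  exact Nat.eq_of_mul_eq_mul_right (Nat.pos_of_ne_zero e3) (e1.trans e2.symm)

theorem eq_of_le {x y : G} (hx : PP x) (hy : PP y) (x1 : f x ≠ 1) (y1 : f y ≠ 1)
    (e : 𝐂[x] ≤ 𝐂[y]) : 𝐂[x] = 𝐂[y] :=
  eq_of_le_of_card_ge e (h.card_eq hy hx y1 x1).le

theorem card_map (x : G) : Nat.card 𝐂[x] = Nat.card ((𝐂[x]).map f) * Nat.card (center G) := by
  have e : 𝐂[x] ⊓ f.ker = center G := by
    rw [h.ker_eq]
    exact inf_eq_right.2 fun z hz => mem_cent1'.2 (mem_center_iff.1 hz x)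
  rw [← e, ← relIndex_ker, inf_comm, mul_comm, card_inf_mul_relIndex]

theorem card_map_eq {x y : G} (hx : PP x) (hy : PP y) (x1 : f x ≠ 1) (y1 : f y ≠ 1) :
    Nat.card ((𝐂[x]).map f) = Nat.card ((𝐂[y]).map f) := by
  have e := h.card_eq hx hy x1 y1
  rw [h.card_map, h.card_map] at e
  exact Nat.eq_of_mul_eq_mul_right Nat.card_pos e

theorem not_le {S : Subgroup G} (hS : IsSylowIn 2 S ⊤) {x : G} (hx : PP x) (x1 : f x ≠ 1) :
    ¬ S ≤ 𝐂[x] := fun e => by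
  have h1 := hS.not_dvd
  rw [relIndex_top_right] at h1
  exact h1 ((h.idx x hx x1 ▸ h.even).trans (index_dvd_of_le e))

section two

variable {T : Subgroup G} (hT : IsPGroup 2 T)
include hT

theorem cent_sq {u : G} (hu : u ∈ T) (u2 : f u * f u ≠ 1) : 𝐂[u] = 𝐂[u * u] := by
  have := Fact.mk Nat.prime_two
  exact h.eq_of_le (pp_of_mem hT hu) (pp_of_mem hT (mul_mem hu hu)) (ne_of_sq u2)
    (by rwa [map_mul]) (cent1_le_cent1 (mul_mem (mem_zpowers u) (mem_zpowers u)))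

theorem cent_eq {u v : G} (hu : u ∈ T) (hv : v ∈ T) (u2 : f u * f u ≠ 1) (v2 : f v * f v ≠ 1) :
    𝐂[u] = 𝐂[v] := by
  have := Fact.mk Nat.prime_two
  have : Finite X := Finite.of_surjective f h.surj
  obtain ⟨_, ⟨s, hs, rfl⟩, s2, sc⟩ := GD.exists_inv_cent (hT.map f) (K := T.map f) le_normalizer
    fun ho => ne_of_sq v2 (Invol.eq_one_of_odd_of_mem (hT.map f) (mem_map_of_mem f hv)
      (odd_orderOf_of_mem ho (mem_map_of_mem f hv)))
  have ss : s * s ∈ center G := (h.ker _).1 (by rw [map_mul, mul_self_of_inv s2])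
  have key : ∀ u ∈ T, f u * f u ≠ 1 → 𝐂[u] = 𝐂[s] := fun u hu u2 => by
    obtain ⟨z, hz, e⟩ := h.exists_z (a := s * u) (b := u * s) (by
      rw [map_mul, map_mul, mem_cent.1 sc _ (mem_map_of_mem f hu)])
    have e1 : s * u = u * s :=
      mem_cent1.1 ((h.cent_sq hT hu u2).ge (mem_cent1.2 (comm_sq hz e ss)))
    have e2 : f (s * u * (s * u)) = f (u * u) := by
      rw [mul_assoc, ← mul_assoc u, ← e1, ← mul_assoc, ← mul_assoc, mul_assoc (s * s), map_mul,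
        (h.ker _).2 ss, one_mul]
    have e3 : 𝐂[s * u] = 𝐂[u] := by
      rw [h.cent_sq hT (mul_mem hs hu) (by rw [← map_mul, e2, map_mul]; exact u2),
        h.cent_eq_of_map e2, ← h.cent_sq hT hu u2]
    refine h.eq_of_le (pp_of_mem hT hu) (pp_of_mem hT hs) (ne_of_sq u2) (ne_one_of_inv s2)
      fun g hg => mem_cent1.2 ?_
    have e4 := mem_cent1.1 (e3.ge hg)
    rwa [mul_assoc, ← mem_cent1.1 hg, ← mul_assoc, ← mul_assoc, mul_left_inj] at e4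
  rw [key u hu u2, key v hv v2]

variable {v : G} (hv : v ∈ T) (v2 : f v * f v ≠ 1)
include hv v2

theorem sq_of_notMem {t : G} (ht : t ∈ T) (t' : t ∉ 𝐂(𝐂[v])) : f t * f t = 1 := by
  by_contra e
  exact t' (h.cent_eq hT ht hv e v2 ▸ self_mem_cc t)

theorem inv_of_notMem {t a : G} (ht : t ∈ T) (t' : t ∉ 𝐂(𝐂[v])) (ha : a ∈ T)
    (a' : a ∈ 𝐂(𝐂[v])) : f t * f a * (f t)⁻¹ = (f a)⁻¹ := by
  have e1 := h.sq_of_notMem hT hv v2 ht t'
  have e2 := h.sq_of_notMem hT hv v2 (mul_mem ht ha) fun e => t' ((mul_mem_cancel_right a').1 e)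
  rw [map_mul] at e2
  rw [inv_eq_of_mul_eq_one_right e1]
  refine eq_inv_of_mul_eq_one_left ?_
  rw [← e2]
  group

theorem not_comm {t : G} (ht : t ∈ T) (t' : t ∉ 𝐂(𝐂[v])) : f t * f v ≠ f v * f t := fun e => by
  have e1 := h.inv_of_notMem hT hv v2 ht t' hv (self_mem_cc v)
  rw [e, mul_inv_cancel_right] at e1
  exact v2 (by nth_rewrite 1 [e1]; exact inv_mul_cancel _)

theorem mul_mem_cc {t u : G} (ht : t ∈ T) (t' : t ∉ 𝐂(𝐂[v])) (hu : u ∈ T) (u' : u ∉ 𝐂(𝐂[v])) :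
    t * u ∈ 𝐂(𝐂[v]) := by
  by_contra e
  refine h.not_comm hT hv v2 (mul_mem ht hu) e (mul_inv_eq_iff_eq_mul.1 ?_)
  have e1 := h.inv_of_notMem hT hv v2 ht t' hv (self_mem_cc v)
  have e2 := h.inv_of_notMem hT hv v2 hu u' hv (self_mem_cc v)
  calc f (t * u) * f v * (f (t * u))⁻¹ = f t * (f u * f v * (f u)⁻¹) * (f t)⁻¹ := by
        rw [map_mul]; group
    _ = (f t * f v * (f t)⁻¹)⁻¹ := by rw [e2]; group
    _ = f v := by rw [e1, inv_inv]

theorem cent_eq_of_cc {a : G} (ha : PP a) (a' : a ∈ 𝐂(𝐂[v])) (a1 : f a ≠ 1) : 𝐂[v] = 𝐂[a] := by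
  have := Fact.mk Nat.prime_two
  exact h.eq_of_le (pp_of_mem hT hv) ha (ne_of_sq v2) a1 (le_of_mem_cc a')

theorem eq_one_of_comm {t a : G} (ht : t ∈ T) (t' : t ∉ 𝐂(𝐂[v])) (ha : PP a) (a' : a ∈ 𝐂(𝐂[v]))
    (hc : t ∈ 𝐂[a]) : f a = 1 := by
  by_contra a1
  refine h.not_comm hT hv v2 ht t' ?_
  rw [← map_mul, ← map_mul, mem_cent1.1 ((h.cent_eq_of_cc hT hv v2 ha a' a1).ge hc)]

end two

section sylow

variable {S : Subgroup G} (hS : IsSylowIn 2 S ⊤) {v : G} (hv : v ∈ S) (v2 : f v * f v ≠ 1)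
include hS hv v2

theorem exists_conj {t : G} (ht : t ∈ S) : ∃ g, g * t * g⁻¹ ∈ S ⊓ 𝐂(𝐂[v]) := by
  have := Fact.mk Nat.prime_two
  have : Finite X := Finite.of_surjective f h.surj
  have hT := hS.isPGroup
  by_cases t1 : f t = 1
  · exact ⟨1, by simpa using ⟨ht, h.mem_cent_of_ker t1 _⟩⟩
  obtain ⟨P, hP1, hP⟩ := IsSylowIn.exists_ge (hT.to_le (zpowers_le.2 ht))
    (U4.zpowers_le_cent1 t)
  obtain ⟨g, -, hg⟩ := hS.exists_conj_le hP.isPGroup le_top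
  have h1 : g * t * g⁻¹ ∈ S := hg (conj_mem_conj_iff.2 (hP1 (mem_zpowers t)))
  refine ⟨g, h1, ?_⟩
  by_contra t'
  have h2 := hP.map_conj g
  rw [← cent1_conj] at h2
  have t2 : f (g * t * g⁻¹) ≠ 1 := by
    rw [map_mul, map_mul, map_inv]
    exact U4.conj_ne_one_iff.2 t1
  generalize g * t * g⁻¹ = u at h1 t' h2 t2
  generalize g •ᶜ P = Q at hg h2
  have h3 : 2 ^ 2 ∣ Nat.card ((𝐂[u]).map f) := by
    rw [h.card_map_eq (pp_of_mem hT h1) (pp_of_mem hT hv) t2 (ne_of_sq v2)]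
    refine Dvd.dvd.trans ?_ (Subgroup.orderOf_dvd_natCard _ (mem_map_of_mem f (self_mem_cent1 v)))
    obtain ⟨k, hk⟩ := orderOf_eq_pow_of_mem_isPGroup (hT.map f) (mem_map_of_mem f hv)
    rw [hk]
    refine pow_dvd_pow 2 (not_lt.1 fun e => v2 ?_)
    rw [← pow_two]
    exact orderOf_dvd_iff_pow_eq_one.1 (hk ▸ (pow_dvd_pow 2 (by omega)).trans (pow_one 2).dvd)
  have h4 := GD.pow_dvd_card_sylow (h2.map f) h3
  have h5 : Q.map f ≤ zpowers (f u) := by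
    rintro _ ⟨b, hb, rfl⟩
    have hb1 := hg hb
    have hb2 := mem_cent1_comm.1 (h2.le hb)
    by_cases b' : b ∈ 𝐂(𝐂[v])
    · rw [h.eq_one_of_comm hT hv v2 h1 t' (pp_of_mem hT hb1) b' hb2]
      exact one_mem _
    · have e := h.eq_one_of_comm hT hv v2 h1 t' (pp_of_mem hT (mul_mem h1 hb1))
        (h.mul_mem_cc hT hv v2 h1 t' hb1 b') (mem_cent1_comm.1 (mul_mem (self_mem_cent1 u)
          (h2.le hb)))
      rw [map_mul] at e
      rw [eq_inv_of_mul_eq_one_right e]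
      exact inv_mem (mem_zpowers _)
  have h6 := Nat.le_of_dvd Nat.card_pos (h4.trans (card_dvd_of_le h5))
  rw [card_zpowers_inv (inv_of_mul_self (h.sq_of_notMem hT hv v2 h1 t') t2)] at h6
  omega

theorem exists_notMem : ∃ t ∈ S, t ∉ 𝐂(𝐂[v]) := by
  have := Fact.mk Nat.prime_two
  exact SetLike.not_le_iff_exists.1 fun e =>
    h.not_le hS (pp_of_mem hS.isPGroup hv) (ne_of_sq v2) (e.trans (cc_le v))

theorem uniq {a b : G} (ha : a ∈ S ⊓ 𝐂(𝐂[v])) (hb : b ∈ S ⊓ 𝐂(𝐂[v])) (a2 : orderOf (f a) = 2)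
    (b2 : orderOf (f b) = 2) : f a = f b := by
  have := Fact.mk Nat.prime_two
  have hT := hS.isPGroup
  obtain ⟨t, ht, t'⟩ := h.exists_notMem hS hv v2
  obtain ⟨g, h1, h2⟩ := h.exists_conj hS hv v2 ht
  have t1 : f t ≠ 1 := fun e => t' (h.mem_cent_of_ker e _)
  have e1 : 𝐂[g⁻¹ * v * g⁻¹⁻¹] = 𝐂[t] := by
    rw [cent1_conj, h.cent_eq_of_cc hT hv v2 ((pp_of_mem hT ht).conj g) h2 (by
      rw [map_mul, map_mul, map_inv]; exact U4.conj_ne_one_iff.2 t1), cent1_conj,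
      map_conj_inv_map_conj]
  have w2 : f (g⁻¹ * v * g⁻¹⁻¹) * f (g⁻¹ * v * g⁻¹⁻¹) ≠ 1 := by
    simp only [map_mul, map_inv]
    rw [_root_.conj_mul]
    exact U4.conj_ne_one_iff.2 v2
  have w1 : IsPGroup 2 (zpowers (g⁻¹ * v * g⁻¹⁻¹)) := by
    rw [U4.zpowers_conj]
    exact (hT.to_le (zpowers_le.2 hv)).map _
  generalize g⁻¹ * v * g⁻¹⁻¹ = w at e1 w2 w1
  obtain ⟨P, hP1, hP⟩ := IsSylowIn.exists_ge w1 (zpowers_le.2 (self_mem_cc w))
  have hn : ∀ c ∈ S ⊓ 𝐂(𝐂[v]), orderOf (f c) = 2 → c ∈ S ⊓ 𝐍(P) ∧ c ∉ 𝐂(𝐂[w]) := fun c hc c2 => by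
    refine ⟨⟨hc.1, ?_⟩, fun e => ne_one_of_inv c2 (h.eq_one_of_comm hT hv v2 ht t'
      (pp_of_mem hT hc.1) hc.2 (le_of_mem_cc e (e1.ge (self_mem_cent1 t))))⟩
    have e2 := h.inv_of_notMem hT hv v2 ht t' hc.1 hc.2
    rw [inv_of_inv c2] at e2
    have e3 : c •ᶜ 𝐂[w] = 𝐂[w] := by
      rw [e1, ← cent1_conj]
      refine h.cent_eq_of_map ?_
      rw [map_mul, map_mul, map_inv, ← mul_inv_eq_iff_eq_mul.1 e2, mul_inv_cancel_right]
    obtain ⟨k, hk, h3⟩ := hP.frattini_elem (g := c) (mem_normalizer_of_map_conj_eq (by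
      rw [← centralizer_map_conj, e3]))
    exact (mul_mem_cancel_left (U4.cent_le_norm P (mem_cent.2 fun x hx =>
      cc_comm (hP.le hx) hk))).1 h3
  have hT' : IsPGroup 2 ↥(P ⊔ S ⊓ 𝐍(P)) :=
    IsPGroup.to_sup_of_normal_left' hP.isPGroup hT.to_inf_left inf_le_right
  have h3 := h.mul_mem_cc hT' (mem_sup_left (hP1 (mem_zpowers w))) w2
    (mem_sup_right (hn a ha a2).1) (hn a ha a2).2 (mem_sup_right (hn b hb b2).1) (hn b hb b2).2
  have h4 := h.eq_one_of_comm hT hv v2 ht t' (pp_of_mem hT (mul_mem ha.1 hb.1))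
    (mul_mem ha.2 hb.2) (le_of_mem_cc h3 (e1.ge (self_mem_cent1 t)))
  rw [map_mul] at h4
  rw [eq_inv_of_mul_eq_one_left h4, inv_of_inv b2]

theorem dih : GD.Dih X ∧ ∀ a b : X, orderOf a = 2 → orderOf b = 2 → ∃ g, g * a * g⁻¹ = b := by
  have := Fact.mk Nat.prime_two
  have : Finite X := Finite.of_surjective f h.surj
  have hT := hS.isPGroup
  have hS' := hS.map f
  rw [map_top_of_surjective f h.surj] at hS'
  constructor
  · have hc : IsCyclic ((S ⊓ 𝐂(𝐂[v])).map f) := by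
      by_contra e
      obtain ⟨_, ⟨a, ha, rfl⟩, _, ⟨b, hb, rfl⟩, a2, b2, h1⟩ :=
        PGrp.exists_orderOf_eq_prime_pair (hT.to_inf_left.map f) ⟨⟨by
          rintro ⟨_, a, ha, rfl⟩ ⟨_, b, hb, rfl⟩
          exact Subtype.ext (by
            show f a * f b = f b * f a
            rw [← map_mul, ← map_mul, cc_comm ha.2 hb.2])⟩⟩ e
      refine h1 (h.uniq hS hv v2 ha hb a2 (inv_of_mul_self ((pow_two _).symm.trans b2)
        fun e => h1 (e ▸ one_mem _)) ▸ mem_zpowers _)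
    obtain ⟨x, hx⟩ := U4.exists_zpowers_eq hc
    obtain ⟨t, ht, t'⟩ := h.exists_notMem hS hv v2
    obtain ⟨a, ha, rfl⟩ := hx.le (mem_zpowers x)
    refine dih_frame hS' (x := f a) (y := f t) ?_ (h.sq_of_notMem hT hv v2 ht t')
      (h.inv_of_notMem hT hv v2 ht t' ha.1 ha.2)
    rintro _ ⟨s, hs, rfl⟩
    rw [hx, ← map_inv, ← map_mul]
    by_cases e : s ∈ 𝐂(𝐂[v])
    · exact Or.inl (mem_map_of_mem f ⟨hs, e⟩)
    · exact Or.inr (mem_map_of_mem f ⟨S.mul_mem hs (S.inv_mem ht),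
        h.mul_mem_cc hT hv v2 hs e (inv_mem ht) fun e' => t' (inv_mem_iff.1 e')⟩)
  · have key : ∀ a : X, orderOf a = 2 → ∃ g, ∃ c ∈ S ⊓ 𝐂(𝐂[v]), g * a * g⁻¹ = f c := fun a a2 => by
      obtain ⟨g, -, hg⟩ := hS'.exists_conj_le (isPGroup_zpowers_inv a2) le_top
      obtain ⟨t, ht, e⟩ := hg (conj_mem_conj_iff.2 (mem_zpowers a))
      obtain ⟨k, hk⟩ := h.exists_conj hS hv v2 ht
      exact ⟨f k * g, _, hk, by rw [map_mul, map_mul, map_inv, e]; group⟩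
    intro a b a2 b2
    obtain ⟨g, c, hc, e1⟩ := key a a2
    obtain ⟨k, d, hd, e2⟩ := key b b2
    have e3 := h.uniq hS hv v2 hc hd (by rw [← e1, orderOf_conj, a2]) (by rw [← e2, orderOf_conj, b2])
    rw [← e1, ← e2] at e3
    refine ⟨k⁻¹ * g, ?_⟩
    rw [mul_inv_rev, inv_inv, mul_assoc k⁻¹, mul_assoc k⁻¹, ← mul_assoc _ _ k, e3]
    group

end sylow

end Hy

end CfsgLib.PPC
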