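import Cfsg.Agent.Lib.PPC.Simple
import Cfsg.Agent.Lib.PPC.Two
import Cfsg.Agent.Lib.Kazarin
import Cfsg.Agent.Lib.H8FT
import Cfsg.Agent.Lib.H5Real
import Cfsg.Agent.Lib.CoprimePGroup

/-!
# Groups whose elements of prime power order have two class sizes are solvable
-/

set_option autoImplicit false

namespace CfsgLib.PPC

open Subgroup Cfsg CfsgLib.FT CfsgLib.FT.BGN CfsgLib.GW CfsgLib.Wal
open CfsgLib.FT.U4 (mem_cent1 mem_cent1' mem_cent mem_cent1_comm self_mem_cent1)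
open scoped commutatorElement

universe u

/-- The exponent of `2` in the order. -/
noncomputable def v2 {G : Type*} [Group G] (H : Subgroup G) : ℕ := (Nat.card H).factorization 2

section val
variable {G : Type*} [Group G] [Finite G]

theorem pow_dvd_iff (H : Subgroup G) (k : ℕ) : 2 ^ k ∣ Nat.card H ↔ k ≤ v2 H :=
  Nat.prime_two.pow_dvd_iff_le_factorization Nat.card_pos.ne'

theorem v2_mono {H K : Subgroup G} (h : H ≤ K) : v2 H ≤ v2 K :=
  (pow_dvd_iff K _).1 (((pow_dvd_iff H _).2 le_rfl).trans (card_dvd_of_le h))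

theorem v2_eq {H K : Subgroup G} (h : H ≤ K)
    (h2 : ∀ y ∈ K, (∃ k, orderOf y = 2 ^ k) → y ∈ H) : v2 H = v2 K := by
  have := Fact.mk Nat.prime_two
  obtain ⟨P, hP⟩ := IsSylowIn.exists_in (p := 2) K
  have h3 : P ≤ H := fun y hy => h2 y (hP.le hy) (orderOf_eq_pow_of_mem_isPGroup hP.isPGroup hy)
  exact Nat.pow_right_injective le_rfl ((hP.mono h3 h).card_eq_ordProj.symm.trans
    hP.card_eq_ordProj)

theorem v2_sup {A B : Subgroup G} (hn : B ≤ 𝐍(A)) (hi : A ⊓ B = ⊥) :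
    v2 (A ⊔ B) = v2 A + v2 B := by
  unfold v2
  rw [← U4.IsComplIn.card_mul (U4.isComplIn_of_sup hn hi rfl),
    Nat.factorization_mul Nat.card_pos.ne' Nat.card_pos.ne', Finsupp.add_apply]

theorem two_dvd_index_iff (H : Subgroup G) : 2 ∣ H.index ↔ v2 H < v2 (⊤ : Subgroup G) := by
  unfold v2
  rw [card_top, ← H.card_mul_index,
    Nat.factorization_mul Nat.card_pos.ne' index_ne_zero_of_finite, Finsupp.add_apply,
    Nat.prime_two.dvd_iff_one_le_factorization index_ne_zero_of_finite]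
  omega

omit [Finite G] in
theorem v2_coe {K : Subgroup G} (w : K) : v2 𝐂[w] = v2 (K ⊓ 𝐂[(w : G)]) := by
  have e := Wal.map_inf_cent1 K.subtype_injective ⊤ w
  rw [← MonoidHom.range_eq_map, range_subtype, top_inf_eq] at e
  unfold v2
  rw [show K ⊓ 𝐂[(w : G)] = _ from e, card_map_of_injective K.subtype_injective]

end val

variable {G : Type*} {X : Type u} [Group G] [Group X] {f : G →* X} {m : ℕ} [Finite G]

namespace Hy

variable (h : Hy f m)
include h

theorem lift {p : ℕ} (hp : p.Prime) {K : Subgroup G} {y : X} (hy : y ∈ K.map f)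
    (e : ∃ k, orderOf y = p ^ k) : ∃ x ∈ K, f x = y ∧ ∃ k, orderOf x = p ^ k := by
  have : Finite X := Finite.of_surjective f h.surj
  obtain ⟨x, hx, rfl⟩ := hy
  obtain ⟨u, hu, e1, e2⟩ := exists_lift_isPiNum f (π := {p}) x
    ((isPiNum_singleton_iff hp (orderOf_pos _).ne').2 e)
  exact ⟨u, zpowers_le.2 hx hu, e1, (isPiNum_singleton_iff hp (orderOf_pos _).ne').1 e2⟩

theorem lift' {p : ℕ} (hp : p.Prime) {y : X} (e : ∃ k, orderOf y = p ^ k) :
    ∃ x, f x = y ∧ ∃ k, orderOf x = p ^ k :=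
  let ⟨x, _, hx⟩ := h.lift hp (K := ⊤) (by rw [map_top_of_surjective f h.surj]; trivial) e
  ⟨x, hx⟩

omit [Finite G] in
theorem nil_comap {B : Subgroup X} (hB : Group.IsNilpotent B) : Group.IsNilpotent (B.comap f) :=
  Subgroup.isNilpotent_of_ker_le_center (f.subgroupComap B) fun x hx => mem_center_iff.2 fun y =>
    Subtype.ext (mem_center_iff.1 ((h.ker x).1 (congrArg Subtype.val hx)) y)

theorem comm_of_coprime {x y : G} (e : f x * f y = f y * f x)
    (hc : (orderOf x).Coprime (orderOf y)) : x * y = y * x := by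
  refine (commute_of_coprime_of_mem_isNilpotent (h.nil_comap (B := closure {f x, f y})
    (U4.isNilpotent_of_comm (isMulCommutative_closure ?_))) ?_ ?_ hc).eq
  · rintro a (rfl | rfl) b (rfl | rfl)
    exacts [rfl, e, e.symm, rfl]
  · exact subset_closure (Or.inl rfl)
  · exact subset_closure (Or.inr rfl)

theorem core_le {r q k : ℕ} [hr : Fact r.Prime] (hq : q.Prime) (hne : q ≠ r) {y : G}
    (hy : orderOf y = q ^ k) : pCore r G ≤ 𝐂[y] := by
  by_cases y1 : f y = 1
  · exact fun u _ => mem_cent1.2 (mem_center_iff.1 ((h.ker y).1 y1) u)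
  obtain ⟨D, hD⟩ := IsSylowIn.exists_in (p := r) 𝐂[y]
  have hU : IsPGroup r (pCore r G) := pCore_isPGroup r
  have hN : (pCore r G).Normal := inferInstance
  rw [← U4.cent_zpowers, ← commutator_eq_bot_iff_le_centralizer]
  refine Cop.commutator_eq_bot_of_pxq (P := D) hD.isPGroup hU ?_ le_normalizer_of_normal
    le_normalizer_of_normal ?_ fun u hu => ?_
  · rw [Nat.card_zpowers, hy]
    exact ((Nat.coprime_primes hq hr.out).2 hne).pow_left k
  · rw [commutator_eq_bot_iff_le_centralizer, U4.cent_zpowers]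
    exact hD.le
  by_cases u1 : f u = 1
  · exact h.mem_cent_of_ker u1 _
  have h1 : D ≤ 𝐂[u] := fun d hd => mem_cent1.2 (mem_cent.1 hu.2 d hd)
  obtain ⟨E, hE1, hE⟩ := IsSylowIn.exists_ge (Q := D ⊔ zpowers u) (H := 𝐂[u])
    (IsPGroup.to_sup_of_normal_left' hD.isPGroup (hU.to_le (zpowers_le.2 hu.1))
      (zpowers_le.2 (U4.cent_le_norm D hu.2))) (sup_le h1 (U4.zpowers_le_cent1 u))
  have e : D = E := eq_of_le_of_card_ge (le_sup_left.trans hE1) (by
    rw [hE.card_eq_ordProj, hD.card_eq_ordProj,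
      h.card_eq (pp_of_mem hU hu.1) ⟨q, k, hq, hy⟩ u1 y1])
  rw [U4.cent_zpowers]
  exact hD.le (e.ge (hE1 (mem_sup_right (mem_zpowers u))))

theorem fitting_eq (hs : ¬ Group.IsSolvable G) : fittingSubgroup X = ⊥ := by
  have : Finite X := Finite.of_surjective f h.surj
  refine fitting_eq_bot_iff.2 fun r hr => U4.eq_bot_of_forall fun y hy => ?_
  have hU : IsPGroup r (pCore r X) := pCore_isPGroup r
  obtain ⟨u, rfl, k, hk⟩ := h.lift' hr.out (orderOf_eq_pow_of_mem_isPGroup hU hy)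
  have hu : u ∈ pCore r G := le_pCore_of_le_fitting (A := zpowers u)
    (zpowers_le.2 (le_fitting (N := (pCore r X).comap f) (h.nil_comap hU.isNilpotent) hy))
    (isPGroup_zpowers_iff.2 ⟨k, hk⟩) (mem_zpowers u)
  by_contra u1
  have h1 : m = r ^ m.primeFactorsList.length := by
    have h0 := h.idx u ⟨r, k, hr.out, hk⟩ u1
    refine Nat.eq_prime_pow_of_unique_prime_dvd (h0 ▸ index_ne_zero_of_finite) fun {q} hq hd => ?_
    by_contra hne
    have := Fact.mk hq
    obtain ⟨Q⟩ : Nonempty (Sylow q G) := inferInstance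
    refine Q.not_dvd_index ((h0 ▸ hd).trans (index_dvd_of_le fun x hx => ?_))
    obtain ⟨j, hj⟩ := orderOf_eq_pow_of_mem_isPGroup Q.isPGroup' hx
    exact mem_cent1_comm.1 (h.core_le hq hne hj hu)
  refine hs (solvableRadical_eq_top_iff.1 (top_le_iff.1 (le_of_forall_primePow_mem
    fun x _ p j hp hj => Chr.mem_solvableRadical_of_class_prime_pow hr.out ?_)))
  by_cases x1 : f x = 1
  · refine ⟨0, index_eq_one.2 (top_le_iff.1 fun g _ => ?_)⟩
    exact mem_cent1.2 (mem_center_iff.1 ((h.ker x).1 x1) g)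
  · exact ⟨_, (h.idx x ⟨p, j, hp, hj⟩ x1).trans h1⟩

theorem map_le (x : G) : (𝐂[x]).map f ≤ 𝐂[f x] := by
  rintro _ ⟨g, hg, rfl⟩
  rw [mem_cent1, ← map_mul, ← map_mul, mem_cent1.1 hg]

theorem exists_lift_op {w : X} (hw : OP w) :
    ∃ x, f x = w ∧ PP x ∧ v2 ((𝐂[x]).map f) = v2 𝐂[w] := by
  have : Finite X := Finite.of_surjective f h.surj
  obtain ⟨x, rfl, k, hk⟩ := h.lift' hw.1 (y := w) ⟨1, (pow_one _).symm⟩
  refine ⟨x, rfl, ⟨_, k, hw.1, hk⟩, v2_eq (h.map_le x) fun y hy e => ?_⟩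
  obtain ⟨a, rfl, j, hj⟩ := h.lift' Nat.prime_two e
  refine mem_map_of_mem f (mem_cent1.2 (h.comm_of_coprime (mem_cent1.1 hy) ?_))
  rw [hj, hk]
  exact Nat.Coprime.pow _ _ ((Nat.coprime_primes Nat.prime_two hw.1).2 hw.2.symm)

theorem v2_op {x : G} (hx : PP x) (x1 : f x ≠ 1) {w : X} (hw : OP w) :
    v2 𝐂[w] = v2 ((𝐂[x]).map f) := by
  obtain ⟨y, rfl, hy, e⟩ := h.exists_lift_op hw
  rw [← e]
  unfold v2
  rw [h.card_map_eq hy hx hw.ne_one x1]

theorem v2_lt {w : X} (hw : OP w) : v2 𝐂[w] < v2 (⊤ : Subgroup X) := by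
  have : Finite X := Finite.of_surjective f h.surj
  obtain ⟨y, rfl, hy, e⟩ := h.exists_lift_op hw
  rw [← e, ← two_dvd_index_iff, index_map_eq _ h.surj fun z hz =>
    mem_cent1'.2 (mem_center_iff.1 ((h.ker z).1 hz) y), h.idx y hy hw.ne_one]
  exact h.even

theorem ab_false (hO : Od (⊤ : Subgroup X) = ⊥) (hel : H5.JB.AllEl X) {K : Subgroup X}
    (hK : IsComponent K) : False := by
  have : Finite X := Finite.of_surjective f h.surj
  have := Fact.mk Nat.prime_two
  have hab := hel.abTwo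
  have hR := red_of_abTwo hab hO
  obtain ⟨hs, hna⟩ := simple_of_quasi hab hK.2 (Od_eq_bot_of_subnormal hO hK.1)
  have h0 := inf_cent_of_simple hs hna
  have e1 : ∀ w ∈ K, v2 𝐂[w] = v2 (K ⊓ 𝐂[w]) + v2 𝐂(K) := fun w hw => by
    rw [← v2_sup (H1.le_normalizer_inf (U4.cent_le_norm K)
      ((U4.cent_le_cent1 hw).trans le_normalizer))
      (le_bot_iff.1 ((inf_le_inf_right _ inf_le_left).trans h0.le))]
    refine (v2_eq (sup_le inf_le_right (U4.cent_le_cent1 hw)) fun s hs e => ?_).symm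
    have s2 := hel _ (isPGroup_zpowers_iff.2 e) s (mem_zpowers s)
    obtain ⟨t, ht, t2, -, h3⟩ := hR.dec hK s2
    have h4 : t ∈ 𝐂[w] := (mul_mem_cancel_right hs).1 (U4.cent_le_cent1 hw h3)
    have h5 := mul_mem (mem_sup_left (T := 𝐂(K)) (show t ∈ K ⊓ 𝐂[w] from ⟨ht, h4⟩))
      (mem_sup_right h3)
    rwa [← mul_assoc, t2, one_mul] at h5
  have e2 : v2 (⊤ : Subgroup X) = v2 (⊤ : Subgroup K) + v2 𝐂(K) := by
    have := e1 1 K.one_mem
    have e : 𝐂[(1 : X)] = ⊤ := top_le_iff.1 fun g _ => mem_cent1.2 (by simp)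
    rw [e, inf_top_eq] at this
    rw [this]
    unfold v2
    rw [card_top]
  obtain ⟨t, ht, t2⟩ := exists_inv_of_not_odd (H := K) fun ho =>
    not_solv_of_simple hs hna (solvable_of_odd ho)
  obtain ⟨x, hx, rfl, k, hk⟩ := h.lift Nat.prime_two (K := ⁅K.comap f, K.comap f⁆) (y := t) (by
    rwa [map_commutator, map_comap_eq_self_of_surjective h.surj, perfect_of_simple hs hna])
    ⟨1, t2⟩
  have e3 : ⁅(𝐂(K)).comap f, K.comap f⁆ ≤ center G := by
    rw [← h.ker_eq, ← Subgroup.map_eq_bot_iff, map_commutator, map_comap_eq_self_of_surjective h.surj,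
      map_comap_eq_self_of_surjective h.surj, commutator_eq_bot_iff_le_centralizer]
  have e4 : ⁅⁅(𝐂(K)).comap f, K.comap f⁆, K.comap f⁆ = ⊥ :=
    commutator_eq_bot_iff_le_centralizer.2 (e3.trans (center_le_centralizer _))
  have e5 := commutator_eq_bot_iff_le_centralizer.1 (commutator_commutator_eq_bot_of_rotate
    (by rwa [commutator_comm (K.comap f)]) e4)
  have e6 : 1 + v2 𝐂(K) ≤ v2 ((𝐂[x]).map f) := by
    have a1 : v2 (zpowers (f x)) = 1 := by
      unfold v2
      rw [card_zpowers_inv t2, Nat.prime_two.factorization_self]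
    rw [← a1, ← v2_sup ((U4.cent_le_cent1 ht).trans ((U4.cent_zpowers _).ge.trans
      (U4.cent_le_norm _))) (le_bot_iff.1 ((inf_le_inf_right _ (zpowers_le.2 ht)).trans h0.le))]
    refine v2_mono (sup_le (zpowers_le.2 (mem_map_of_mem f (self_mem_cent1 x))) fun c hc => ?_)
    obtain ⟨c, rfl⟩ := h.surj c
    exact mem_map_of_mem f (mem_cent1.2 (mem_cent.1 (e5 hx) c hc))
  have key : ∀ w : K, OP w → v2 𝐂[w] + v2 𝐂(K) = v2 ((𝐂[x]).map f) ∧
      v2 𝐂[w] < v2 (⊤ : Subgroup K) := fun w hw => by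
    have hw' : OP (w : X) := by
      unfold OP
      rwa [orderOf_coe]
    have a1 := h.v2_op ⟨2, k, Nat.prime_two, hk⟩ (ne_one_of_inv t2) hw'
    have a2 := h.v2_lt hw'
    have a3 := e1 w w.2
    rw [v2_coe]
    omega
  refine ab_case hna (ab_sub hab K) (fun w hw => ?_) (fun w hw => ?_) fun w w' hw hw' e => ?_
  · have := (key w hw).1
    exact (pow_dvd_iff _ 1).2 (by omega)
  · exact (two_dvd_index_iff _).2 (key w hw).2
  · have a1 := (key w hw).1
    have a2 := (key w' hw').1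
    have a3 := (pow_dvd_iff _ 2).1 e
    exact (pow_dvd_iff _ 2).2 (by omega)

theorem solvable : Group.IsSolvable G := by
  by_contra hs
  have : Finite X := Finite.of_surjective f h.surj
  have := Fact.mk Nat.prime_two
  have hF := h.fitting_eq hs
  have hO : Od (⊤ : Subgroup X) = ⊥ := by
    have : (Od (⊤ : Subgroup X)).Normal := normalizer_eq_top_iff.1 (top_le_iff.1 (le_norm_Od ⊤))
    exact le_bot_iff.1 ((le_solvableRadical (solvable_Od ⊤)).trans
      (solvableRadical_eq_bot_iff.2 hF).le)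
  have hX : Nontrivial X := by
    by_contra e
    rw [not_nontrivial_iff_subsingleton] at e
    exact hs (isSolvable_of_comm fun a b =>
      mem_center_iff.1 ((h.ker b).1 (Subsingleton.elim _ _)) a)
  by_cases hv : ∃ v : G, (∃ k, orderOf v = 2 ^ k) ∧ f v * f v ≠ 1
  · obtain ⟨v, ⟨k, hk⟩, v2'⟩ := hv
    obtain ⟨S, hS1, hS⟩ := IsSylowIn.exists_ge (isPGroup_zpowers_iff.2 ⟨k, hk⟩) le_top
    obtain ⟨h1, h2⟩ := h.dih hS (hS1 (mem_zpowers v)) v2'
    refine dih_case h1 hO (fitting_eq_bot_iff.1 hF 2) h2 fun w hw => (pow_dvd_iff _ 1).2 ?_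
    rw [h.v2_op ⟨2, k, Nat.prime_two, hk⟩ (ne_of_sq v2') hw, ← pow_dvd_iff, pow_one]
    refine Dvd.dvd.trans ?_ (Subgroup.orderOf_dvd_natCard _ (mem_map_of_mem f (self_mem_cent1 v)))
    obtain ⟨j, -, hj⟩ := (Nat.dvd_prime_pow Nat.prime_two).1 (hk ▸ orderOf_map_dvd f v)
    rw [hj]
    exact dvd_pow_self 2 fun e => ne_of_sq v2' (orderOf_eq_one_iff.1 (by rw [hj, e, pow_zero]))
  · obtain ⟨K, hK, -⟩ := (exists_component_or_inf_fitting_ne_bot (C := (⊤ : Subgroup X))
      IsSubnormal.top top_ne_bot).resolve_right (by rw [hF, inf_bot_eq]; exact fun e => e rfl)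
    refine h.ab_false hO (fun P hP y hy => ?_) hK
    obtain ⟨x, rfl, e⟩ := h.lift' Nat.prime_two (orderOf_eq_pow_of_mem_isPGroup hP hy)
    by_contra e'
    exact hv ⟨x, e, e'⟩

end Hy

theorem solvable_of_two_sizes {G : Type u} [Group G] [Finite G] (m : ℕ)
    (h : ∀ x : G, PP x → (𝐂[x]).index = 1 ∨ (𝐂[x]).index = m) : Group.IsSolvable G := by
  by_contra hs
  obtain ⟨y, u, q, k, hq, hq2, y1, hy, -, e⟩ := H8FT.exists_real_of_not_solvable hs
  have h2 := H5.two_dvd_index_centralizer_of_isConj_inv (isConj_iff.2 ⟨u, e⟩) fun e' =>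
    y1 (eq_one_of_odd_of_mul_self (hy ▸ (hq.odd_of_ne_two hq2).pow) ((pow_two y).symm.trans e'))
  refine hs (Hy.solvable (f := QuotientGroup.mk' (center G)) (m := m)
    ⟨QuotientGroup.mk'_surjective _, fun x => QuotientGroup.eq_one_iff x, fun x hx x1 =>
      (h x hx).resolve_left fun e' => x1 ((QuotientGroup.eq_one_iff x).2 (mem_center_iff.2
        fun g => mem_cent1.1 ((index_eq_one.1 e').ge (mem_top g)))), ?_⟩)
  rcases h y ⟨q, k, hq, hy⟩ with e' | e'
  · rw [e'] at h2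
    omega
  · exact e' ▸ h2

end CfsgLib.PPC
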