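import Cfsg.Agent.Lib.WApp.WJR
import Cfsg.Agent.Lib.Wal.H5BFr
import Cfsg.Agent.Lib.GD.QuoA
import Cfsg.Agent.Lib.GD.Main

/-!
# Simple groups with abelian or dihedral Sylow `2`-subgroups: centralizers of elements of odd
prime order
-/

set_option autoImplicit false

namespace CfsgLib.PPC

open Subgroup Cfsg CfsgLib.FT CfsgLib.FT.BGN CfsgLib.GW CfsgLib.Wal
open CfsgLib.FT.U4 (mem_cent1 mem_cent1' mem_cent mem_cent1_comm cent1_conj orderOf_conj)
open scoped MatrixGroups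

universe u

/-- Elements of odd prime order. -/
def OP {G : Type*} [Group G] (w : G) : Prop := (orderOf w).Prime ∧ orderOf w ≠ 2

section general
variable {G : Type*} [Group G] [Finite G]

omit [Finite G] in
theorem OP.odd {w : G} (h : OP w) : Odd (orderOf w) := h.1.odd_of_ne_two h.2

omit [Finite G] in
theorem OP.ne_one {w : G} (h : OP w) : w ≠ 1 := fun e => by
  have := h.1
  rw [e, orderOf_one] at this
  exact Nat.not_prime_one this

omit [Finite G] in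
theorem OP.sq_ne {w : G} (h : OP w) : w * w ≠ 1 := fun e =>
  h.ne_one (eq_one_of_odd_of_mul_self h.odd e)

theorem exists_op {H : Subgroup G} {p : ℕ} (hp : p.Prime) (h2 : p ≠ 2) (hd : p ∣ Nat.card H) :
    ∃ w ∈ H, orderOf w = p ∧ OP w := by
  have := Fact.mk hp
  obtain ⟨w, hw⟩ := exists_prime_orderOf_dvd_card' p hd
  rw [← orderOf_coe] at hw
  exact ⟨w, w.2, hw, hw ▸ hp, hw ▸ h2⟩

theorem exists_inv_of_two_dvd {H : Subgroup G} (h : 2 ∣ Nat.card H) : ∃ x ∈ H, orderOf x = 2 :=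
  exists_inv_of_not_odd fun ho => Nat.not_even_iff_odd.2 ho (even_iff_two_dvd.2 h)

theorem exists_op_of_not_solvable (h : ¬ Group.IsSolvable G) : ∃ w : G, OP w := by
  by_contra hn
  have := Fact.mk Nat.prime_two
  refine h ?_
  have h2 : IsPGroup 2 G := by
    refine IsPGroup.iff_card.2 ⟨_, Nat.eq_prime_pow_of_unique_prime_dvd Nat.card_pos.ne'
      fun {d} hd h1 => ?_⟩
    by_contra e
    obtain ⟨w, -, -, hw⟩ := exists_op (H := (⊤ : Subgroup G)) hd e (by rwa [card_top])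
    exact hn ⟨w, hw⟩
  have := h2.isNilpotent
  infer_instance

omit [Finite G] in
theorem psl_case {F : Type*} [Field F] [Fintype F] (ho : Odd (Fintype.card F))
    (e : G ≃* PSL(2, F)) : ∃ w : G, OP w ∧ ∀ y ∈ 𝐂[w], orderOf y ≠ 2 := by
  obtain ⟨p, _, ⟨f, hf⟩, hp, hF⟩ := FiniteField.card' F
  have := Fact.mk hp
  have hp2 : p ≠ 2 := fun e' => by
    rw [hF, e'] at ho
    exact Nat.not_even_iff_odd.2 ho (Nat.even_pow.2 ⟨even_two, hf.ne'⟩)
  have h1 : ∀ z : F, WApp.uu z ^ p = 1 := fun z => by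
    rw [WApp.uu_pow, CharP.cast_eq_zero, zero_mul, WApp.uu_zero]
  have h2 : orderOf (WApp.uu (1 : F)) = p := orderOf_eq_prime (h1 1) fun e' =>
    one_ne_zero (WApp.uu_inj (e'.trans WApp.uu_zero.symm))
  have h3 : orderOf (e.symm (WApp.uu 1)) = p := by rw [MulEquiv.orderOf_eq, h2]
  refine ⟨e.symm (WApp.uu 1), ⟨h3 ▸ hp, h3 ▸ hp2⟩, fun y hy h4 => ?_⟩
  obtain ⟨z, hz⟩ := WApp.cent_uu (x := (1 : F)) (y := e y) one_ne_zero (by
    have := congrArg e (mem_cent1.1 hy)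
    simpa using this)
  have h5 : orderOf (e y) ∣ p := orderOf_dvd_of_pow_eq_one (hz ▸ h1 z)
  rw [MulEquiv.orderOf_eq, h4] at h5
  exact hp2 ((Nat.prime_dvd_prime_iff_eq Nat.prime_two hp).1 h5).symm

end general

theorem wjr_case {G : Type u} [Group G] [Finite G] {t : G} {L : Subgroup G} {q : ℕ}
    [IsSimpleGroup G] (h : WJR t L q)
    (h1 : ∀ w : G, OP w → 2 ∣ Nat.card 𝐂[w]) (h2 : ∀ w : G, OP w → 2 ∣ (𝐂[w]).index)
    (h3 : ∀ w w' : G, OP w → OP w' → 4 ∣ Nat.card 𝐂[w] → 4 ∣ Nat.card 𝐂[w']) : False := by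
  have := Fact.mk Nat.prime_two
  have hyp : JR.Hyp t L q := by
    refine ⟨h.ord, fun x hx => mem_cent1.1 (h.le hx), h.notMem, fun g hg => h.mem_or ?_, h.odd,
      J1.index_ne_two fun e => by have := h.eight_dvd; omega, h.iso, h.mod, h.five_le⟩
    refine relIndex_eq_one.1 ?_ (mem_cent1.2 hg)
    by_contra h4
    obtain ⟨k, hk, hd⟩ := Nat.exists_prime_and_dvd h4
    have hk2 : k ≠ 2 := fun e => Nat.not_even_iff_odd.2 h.odd' (even_iff_two_dvd.2 (e ▸ hd))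
    obtain ⟨x, -, hxk, A, hA1, hA2⟩ := WApp.exists_cent h hk hd
    have h5 := ((H5.JB.allEl h).sylow hA1).not_dvd
    rw [relIndex_top_right] at h5
    exact h5 ((h2 x ⟨hxk ▸ hk, hxk ▸ hk2⟩).trans (index_dvd_of_le hA2))
  obtain ⟨q', r, s, p, c, hc, -, rfl, rfl⟩ := hyp.exists_gd
  have hq5 := hc.toPar.five_le
  obtain ⟨w0, hw0, -, hw⟩ := exists_op (H := c.Q) hc.pp hc.toPar.p_ne_two
    (hc.cardQ ▸ hc.toPar.p_dvd)
  have h4 : ¬ 4 ∣ Nat.card 𝐂[w0] := fun h4 => by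
    have ht : c.t ∈ 𝐂[w0] := mem_cent1'.2 (hc.comm w0 (hc.QL hw0))
    obtain ⟨P, hP1, hP⟩ := IsSylowIn.exists_ge (isPGroup_zpowers_inv hc.ot) (zpowers_le.2 ht)
    have h5 : 2 ^ 2 ∣ Nat.card P := GD.pow_dvd_card_sylow hP h4
    obtain ⟨g, hg, h6⟩ : ∃ g ∈ P, g ∉ zpowers c.t := SetLike.not_le_iff_exists.1 fun e => by
      have := Nat.le_of_dvd Nat.card_pos (h5.trans (card_dvd_of_le e))
      rw [card_zpowers_inv hc.ot] at this
      omega
    have h7 : ∀ g' ∈ P, g' ∈ c.L → g' = 1 := fun g' a b =>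
      eq_one_of_odd_of_mul_self (odd_orderOf_of_mem (hc.cardQ ▸ hc.toPar.odd_q')
        (hc.centQ w0 hw0 hw.ne_one g' b (mem_cent1.1 (hP.le a)))) (hc.two_sq hP.isPGroup a)
    have h8 := hP1 (mem_zpowers c.t)
    rcases hc.cent g (hc.two_comm hP.isPGroup hg h8) with e | e
    · exact h6 (h7 g hg e ▸ one_mem _)
    · exact h6 (eq_inv_of_mul_eq_one_right (h7 _ (mul_mem h8 hg) e) ▸ inv_mem (mem_zpowers _))
  by_cases hr : r.natAbs = 1
  · have e1 : r = 1 := by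
      rcases hc.toPar.r_cases with a | a <;> omega
    have e2 := hc.hq
    have e3 := hc.hs
    have e4 := hc.card_ct
    subst e1 e2 e3
    obtain ⟨w, -, h7, hw7⟩ := exists_op (H := (⊤ : Subgroup G)) (p := 7) (by norm_num)
      (by norm_num) (by rw [card_top]; exact hc.seven_dvd)
    obtain ⟨a, ha, h5⟩ := exists_inv_of_two_dvd (h1 w hw7)
    obtain ⟨g, rfl⟩ := hc.conj_t h5
    have h6 := Subgroup.orderOf_dvd_natCard _ (mem_cent1_comm.1 ha)
    rw [cent1_conj, card_map_of_injective (MulAut.conj g).injective, e4, h7] at h6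
    revert h6
    norm_num
  · obtain ⟨k, hk, hd⟩ := Nat.exists_prime_and_dvd hr
    obtain ⟨x, hx, -, hx'⟩ := exists_op (H := c.R) hk (fun e =>
      Nat.not_even_iff_odd.2 hc.toPar.odd_r' (even_iff_two_dvd.2 (e ▸ hd))) (hc.cardR ▸ hd)
    exact h4 (h3 x w0 hx' hw (hc.four_tu.four_dvd (mem_cent1'.2 (hc.comm x (hc.RL hx)))
      (mem_cent1'.2 (hc.uR x hx))))

/-- The abelian case. -/
theorem ab_case {G : Type u} [Group G] [Finite G] [IsSimpleGroup G] (hna : ¬ IsMulCommutative G)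
    (hab : H1.AbTwo G)
    (h1 : ∀ w : G, OP w → 2 ∣ Nat.card 𝐂[w]) (h2 : ∀ w : G, OP w → 2 ∣ (𝐂[w]).index)
    (h3 : ∀ w w' : G, OP w → OP w' → 4 ∣ Nat.card 𝐂[w] → 4 ∣ Nat.card 𝐂[w']) : False := by
  rcases walter' G hna hab with ⟨n, hn, ⟨e⟩⟩ | ⟨F, _, _, -, h8, ⟨e⟩⟩ | ⟨t, L, q, h⟩
  · obtain ⟨w, hw⟩ := exists_op_of_not_solvable (G := G) fun hs =>
      not_solv_of_simple simple_top (nonab_top hna) inferInstance
    obtain ⟨a, ha, h5⟩ := exists_inv_of_two_dvd (h1 w hw)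
    exact hw.sq_ne ((kt_of_sl2 hna hn e).2.el a trivial h5 w ⟨trivial, mem_cent1_comm.1 ha⟩)
  · obtain ⟨w, hw, h4⟩ := psl_case (Nat.odd_iff.2 (by omega)) e
    obtain ⟨a, ha, h5⟩ := exists_inv_of_two_dvd (h1 w hw)
    exact h4 a ha h5
  · exact wjr_case h h1 h2 h3

/-- The dihedral case. -/
theorem dih_case {X : Type u} [Group X] [Finite X] (hX : GD.Dih X)
    (hO : Od (⊤ : Subgroup X) = ⊥) (hO2 : pCore 2 X = ⊥) [Nontrivial X]
    (hone : ∀ a b : X, orderOf a = 2 → orderOf b = 2 → ∃ g, g * a * g⁻¹ = b)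
    (h1 : ∀ w : X, OP w → 2 ∣ Nat.card 𝐂[w]) : False := by
  rcases GD.exists_struct hX hO (fun Y _ _ _ a b c => GD.main Y a b c) with
    ⟨T, hT, h2, h3⟩ | ⟨L, hS, hL⟩
  · have e : T = ⊥ := le_bot_iff.1 (hO2 ▸ le_pCore h2)
    rw [e, cent_bot] at h3
    exact bot_ne_top (top_le_iff.1 h3)
  have := hS.normal
  obtain ⟨t, ht, s, -, h4⟩ := hX.exists_four_of_perf hS.perf hS.ne
  have key : ∀ p : ℕ, p.Prime → p ≠ 2 → p ∣ Nat.card L → p ∣ Nat.card ↥(L ⊓ 𝐂[t]) :=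
    fun p hp hp2 hd => by
      obtain ⟨w, hw, e, hw'⟩ := exists_op hp hp2 hd
      obtain ⟨a, ha, h5⟩ := exists_inv_of_two_dvd (h1 w hw')
      obtain ⟨g, rfl⟩ := hone a t h5 h4.ot
      rw [← e, ← orderOf_conj g w]
      refine Subgroup.orderOf_dvd_natCard _ ⟨this.conj_mem w hw g, ?_⟩
      rw [cent1_conj]
      exact U4.conj_mem_conj_iff.2 (mem_cent1_comm.1 ha)
  rcases hL with hL | hL
  · obtain ⟨k, hk⟩ := hL.inner t ht h4.ot
    obtain ⟨ε, hε, e⟩ := hk.index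
    have h2 : 2 ∣ orderOf k := h4.ot ▸ orderOf_dvd_of_mem_zpowers hk.tk
    have h0 := orderOf_pos k
    obtain ⟨n, hn⟩ : ∃ n : ℕ, (n : ℤ) = 2 * orderOf k + ε :=
      ⟨(2 * orderOf k + ε).toNat, Int.toNat_of_nonneg (by omega)⟩
    obtain ⟨p, hp, hd⟩ := Nat.exists_prime_and_dvd (n := n) (by omega)
    have hp2 : p ≠ 2 := by
      rintro rfl
      omega
    have h5 : p ∣ (𝐂[t]).relIndex L := by
      refine hd.trans (Int.natCast_dvd_natCast.1 ?_)
      rw [e, hn]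
      exact Dvd.intro _ rfl
    have h6 := key p hp hp2 (h5.trans (relIndex_dvd_card _ _))
    rw [hk.card] at h6
    have h7 := (Nat.Coprime.dvd_mul_left ((Nat.coprime_primes hp Nat.prime_two).2 hp2)).1 h6
    exact hp.one_lt.ne' (Nat.eq_one_of_dvd_coprimes hk.coprime_idx h5 h7)
  · have h6 := key 7 (by norm_num) (by norm_num) (by rw [hL.card]; norm_num)
    rw [(hL.cent t ht h4.ot).1] at h6
    revert h6
    norm_num

end CfsgLib.PPC
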